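import Mathlib

/-!
# The Fine–Herstein count of nilpotent matrices

There are `q ^ (n (n - 1))` nilpotent matrices of size `n` over a field with `q` elements.
-/

set_option autoImplicit false

namespace CfsgLib.NilCount

open Matrix

variable {F : Type*} [Field F] [Fintype F]

/-- The nilpotent shift. -/
def shift (K : ℕ) : Matrix (Fin K) (Fin K) F := fun x i => if x.val = i.val + 1 then 1 else 0

theorem shift_pow_apply (K : ℕ) : ∀ (j : ℕ) (x i : Fin K),
    (shift (F := F) K ^ j) x i ≠ 0 → x.val = i.val + j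
  | 0, x, i, h => by
    rw [pow_zero, one_apply] at h
    split at h
    · rename_i h'; rw [h', add_zero]
    · exact absurd rfl h
  | j + 1, x, i, h => by
    rw [pow_succ, mul_apply] at h
    obtain ⟨y, -, hy⟩ := Finset.exists_ne_zero_of_sum_ne_zero h
    have h1 := shift_pow_apply K j x y (left_ne_zero_of_mul hy)
    have h2 := right_ne_zero_of_mul hy
    simp only [shift, ne_eq, ite_eq_right_iff, Classical.not_imp] at h2
    trace_state
    omega

theorem shift_pow_self (K : ℕ) : shift (F := F) K ^ K = 0 := by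
  ext x i
  by_contra h
  have := shift_pow_apply K K x i h
  have := x.isLt
  omega

theorem fromBlocks_pow {K m : ℕ} (A : Matrix (Fin K) (Fin K) F) (B : Matrix (Fin K) (Fin m) F)
    (D : Matrix (Fin m) (Fin m) F) : ∀ j : ℕ, ∃ Y, fromBlocks A B 0 D ^ j = fromBlocks (A ^ j) Y 0 (D ^ j)
  | 0 => ⟨0, by rw [pow_zero, pow_zero, pow_zero, fromBlocks_one]⟩
  | j + 1 => by
    obtain ⟨Y, hY⟩ := fromBlocks_pow A B D j
    exact ⟨A ^ j * B + Y * D, by rw [pow_succ, hY, fromBlocks_multiply]; simp [pow_succ]⟩

theorem isNilpotent_fromBlocks_shift {K m : ℕ} (B : Matrix (Fin K) (Fin m) F)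
    (D : Matrix (Fin m) (Fin m) F) :
    IsNilpotent (fromBlocks (shift K) B 0 D) ↔ IsNilpotent D := by
  constructor
  · rintro ⟨j, hj⟩
    obtain ⟨Y, hY⟩ := fromBlocks_pow (shift K) B D j
    refine ⟨j, ?_⟩
    have := congrArg toBlocks₂₂ (hY.symm.trans hj)
    rwa [toBlocks_fromBlocks₂₂] at this
  · rintro ⟨e, he⟩
    obtain ⟨Y, hY⟩ := fromBlocks_pow (shift K) B D K
    obtain ⟨Z, hZ⟩ := fromBlocks_pow (shift K) B D e
    refine ⟨K + e, ?_⟩
    rw [pow_add, hY, hZ, fromBlocks_multiply, shift_pow_self, he]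
    simp [fromBlocks_zero]

/-- Chains of a nilpotent endomorphism. -/
def IsChain {n K : ℕ} (M : Matrix (Fin n) (Fin n) F) (w : Fin K → Fin n → F) : Prop :=
  ∀ i : Fin K, M *ᵥ w i = if h : i.val + 1 < K then w ⟨i.val + 1, h⟩ else 0

theorem card_fibre {n K : ℕ} (hK : K ≤ n) (w : Fin K → Fin n → F)
    (hw : LinearIndependent F w) :
    Nat.card {M : Matrix (Fin n) (Fin n) F // IsNilpotent M ∧ IsChain M w} =
      Fintype.card F ^ (K * (n - K)) *
        Nat.card {D : Matrix (Fin (n - K)) (Fin (n - K)) F // IsNilpotent D} := by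
  classical
  obtain ⟨b, hb⟩ : ∃ b : Module.Basis (Fin K ⊕ Fin (n - K)) F (Fin n → F),
      ∀ i, b (Sum.inl i) = w i := by
    let b₀ := Module.Basis.sumExtend hw
    haveI : Finite (Module.Basis.sumExtendIndex hw) := Finite.of_injective _ Subtype.val_injective
    haveI := Fintype.ofFinite (Module.Basis.sumExtendIndex hw)
    have hc : Fintype.card (Module.Basis.sumExtendIndex hw) = n - K := by
      have := Module.finrank_eq_card_basis b₀
      rw [Fintype.card_sum, Module.finrank_fin_fun, Fintype.card_fin] at this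
      omega
    refine ⟨b₀.reindex ((Equiv.refl _).sumCongr (Fintype.equivFinOfCardEq hc)), fun i => ?_⟩
    rw [Module.Basis.reindex_apply]
    simp only [b₀, Module.Basis.sumExtend, Module.Basis.reindex_apply, Equiv.symm_symm,
      Equiv.trans_apply, Equiv.sumCongr_symm, Equiv.refl_symm, Equiv.sumCongr_apply, Sum.map_inl,
      Equiv.refl_apply]
    exact Module.Basis.extend_apply_self _ _
  let φ : Matrix (Fin n) (Fin n) F ≃ₐ[F]
      Matrix (Fin K ⊕ Fin (n - K)) (Fin K ⊕ Fin (n - K)) F :=
    Matrix.toLinAlgEquiv'.trans (LinearMap.toMatrixAlgEquiv b)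
  have hφ : ∀ M x y, φ M x y = b.repr (M *ᵥ b y) x := fun M x y => by
    simp [φ, LinearMap.toMatrixAlgEquiv_apply, Matrix.toLinAlgEquiv'_apply]
  have hnil : ∀ M, IsNilpotent (φ M) ↔ IsNilpotent M := fun M =>
    IsNilpotent.map_iff φ.injective
  have hchain : ∀ M, IsChain M w ↔
      (φ M).toBlocks₁₁ = shift K ∧ (φ M).toBlocks₂₁ = 0 := by
    intro M
    have key : ∀ i : Fin K, M *ᵥ w i = (if h : i.val + 1 < K then w ⟨i.val + 1, h⟩ else 0) ↔
        (∀ x : Fin K, φ M (Sum.inl x) (Sum.inl i) = shift K x i) ∧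
          ∀ x : Fin (n - K), φ M (Sum.inr x) (Sum.inl i) = 0 := by
      intro i
      rw [← b.repr.injective.eq_iff, DFunLike.ext_iff, Sum.forall]
      simp only [hφ, hb]
      by_cases h : i.val + 1 < K
      · rw [dif_pos h, ← hb ⟨_, h⟩, Module.Basis.repr_self]
        refine and_congr (forall_congr' fun x => ?_) (forall_congr' fun x => ?_)
        · simp [shift, Finsupp.single_apply, Fin.ext_iff, eq_comm]
        · simp
      · rw [dif_neg h, map_zero]
        refine and_congr (forall_congr' fun x => ?_) (forall_congr' fun x => ?_)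
        · have : x.val ≠ i.val + 1 := by have := x.isLt; omega
          simp [shift, this]
        · simp
    simp only [IsChain, key, forall_and, ← Matrix.ext_iff, toBlocks₁₁, toBlocks₂₁, of_apply,
      Matrix.zero_apply]
    exact and_congr forall_comm forall_comm
  let e : {M : Matrix (Fin n) (Fin n) F // IsNilpotent M ∧ IsChain M w} ≃
      Matrix (Fin K) (Fin (n - K)) F ×
        {D : Matrix (Fin (n - K)) (Fin (n - K)) F // IsNilpotent D} :=
    { toFun := fun M => ((φ M.1).toBlocks₁₂, ⟨(φ M.1).toBlocks₂₂, by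
        obtain ⟨h1, h2⟩ := (hchain M.1).1 M.2.2
        have h := (hnil M.1).2 M.2.1
        rw [← fromBlocks_toBlocks (φ M.1), h1, h2, isNilpotent_fromBlocks_shift] at h
        exact h⟩)
      invFun := fun x => ⟨φ.symm (fromBlocks (shift K) x.1 0 x.2.1), by
        rw [← hnil, φ.apply_symm_apply, isNilpotent_fromBlocks_shift]; exact x.2.2, by
        rw [hchain, φ.apply_symm_apply, toBlocks_fromBlocks₁₁, toBlocks_fromBlocks₂₁]
        exact ⟨rfl, rfl⟩⟩
      left_inv := fun M => Subtype.ext <| φ.injective <| by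
        obtain ⟨h1, h2⟩ := (hchain M.1).1 M.2.2
        simp only [φ.apply_symm_apply]
        rw [← h1, ← h2, fromBlocks_toBlocks]
      right_inv := fun x => by
        refine Prod.ext ?_ (Subtype.ext ?_) <;> simp }
  rw [Nat.card_congr e, Nat.card_prod]
  congr 1
  rw [Nat.card_eq_fintype_card, show Fintype.card (Matrix (Fin K) (Fin (n - K)) F) =
    Fintype.card (Fin K → Fin (n - K) → F) from rfl]
  simp [← pow_mul, mul_comm]

/-- Pairs of a nilpotent matrix and a nonzero vector are chains. -/
noncomputable def pairEquiv (n : ℕ) :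
    (Σ k : Fin n, Σ w : {w : Fin (k.val + 1) → Fin n → F // LinearIndependent F w},
      {M : Matrix (Fin n) (Fin n) F // IsNilpotent M ∧ IsChain M w.1}) ≃
    {M : Matrix (Fin n) (Fin n) F // IsNilpotent M} × {v : Fin n → F // v ≠ 0} :=
  Equiv.ofBijective (fun x => (⟨x.2.2.1, x.2.2.2.1⟩, ⟨x.2.1.1 0, x.2.1.2.ne_zero 0⟩)) (by
    have hiter : ∀ {K : ℕ} {M : Matrix (Fin n) (Fin n) F} {w : Fin (K + 1) → Fin n → F},
        IsChain M w → ∀ j, (M ^ j) *ᵥ w 0 = if h : j < K + 1 then w ⟨j, h⟩ else 0 := by
      intro K M w hw j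
      induction j with
      | zero => rw [pow_zero, one_mulVec, dif_pos (Nat.succ_pos K)]; rfl
      | succ j ih =>
        rw [pow_succ', ← mulVec_mulVec, ih]
        by_cases h : j < K + 1
        · rw [dif_pos h]; exact hw ⟨j, h⟩
        · rw [dif_neg h, mulVec_zero, dif_neg (by omega)]
    constructor
    · rintro ⟨k, ⟨w, hw⟩, ⟨M, hM, hc⟩⟩ ⟨k', ⟨w', hw'⟩, ⟨M', hM', hc'⟩⟩ h
      simp only [Prod.mk.injEq, Subtype.mk.injEq] at h
      obtain ⟨rfl, h0⟩ := h
      have hk : k = k' := by
        have key : ∀ {a b : ℕ} {u : Fin (a + 1) → Fin n → F} {u' : Fin (b + 1) → Fin n → F},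
            LinearIndependent F u → IsChain M u → IsChain M u' → u 0 = u' 0 → a ≤ b := by
          intro a b u u' hu hcu hcu' h0
          by_contra hlt
          have h1 := hiter hcu (b + 1)
          rw [h0, hiter hcu' (b + 1), dif_neg (lt_irrefl _), dif_pos (by omega)] at h1
          exact hu.ne_zero _ h1.symm
        exact Fin.ext (le_antisymm (key hw hc hc' h0) (key hw' hc' hc h0.symm))
      subst hk
      have : w = w' := funext fun i => by
        have h1 : (M ^ i.val) *ᵥ w 0 = _ := hiter hc i.val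
        rw [show w 0 = w' 0 from h0, hiter hc' i.val, dif_pos i.isLt, dif_pos i.isLt] at h1
        exact h1.symm
      subst this
      rfl
    · rintro ⟨⟨M, hM⟩, ⟨v, hv⟩⟩
      classical
      obtain ⟨e, he⟩ := id hM
      have hex : ∃ j, (M ^ j) *ᵥ v = 0 := ⟨e, by rw [he, zero_mulVec]⟩
      have hpos : Nat.find hex ≠ 0 := fun h => hv (by
        have := Nat.find_spec hex
        rwa [h, pow_zero, one_mulVec] at this)
      set K := Nat.find hex - 1 with hK
      have hfind : Nat.find hex = K + 1 := by omega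
      have hne : ∀ j ≤ K, (M ^ j) *ᵥ v ≠ 0 := fun j hj => Nat.find_min hex (by omega)
      have hz : ∀ j, K < j → (M ^ j) *ᵥ v = 0 := fun j hj => by
        obtain ⟨d, rfl⟩ : ∃ d, j = d + (K + 1) := ⟨j - (K + 1), by omega⟩
        rw [pow_add, ← mulVec_mulVec, ← hfind, Nat.find_spec hex, mulVec_zero]
      have hli : LinearIndependent F fun i : Fin (K + 1) => (M ^ i.val) *ᵥ v := by
        rw [Fintype.linearIndependent_iff]
        intro g hg
        by_contra hne'
        push Not at hne'
        obtain ⟨i, hi⟩ := hne'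
        obtain ⟨i₀, hi₀, hmin⟩ := Finset.exists_min_image (Finset.univ.filter fun i => g i ≠ 0)
          Fin.val ⟨i, by simp [hi]⟩
        simp only [Finset.mem_filter, Finset.mem_univ, true_and] at hi₀ hmin
        have h1 := congrArg ((M ^ (K - i₀.val)) *ᵥ ·) hg
        simp only [mulVec_sum, mulVec_smul, mulVec_mulVec, ← pow_add, mulVec_zero] at h1
        rw [Finset.sum_eq_single i₀] at h1
        · rw [Nat.sub_add_cancel (by omega)] at h1
          exact hne K le_rfl ((smul_eq_zero.1 h1).resolve_left hi₀)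
        · intro j _ hj
          by_cases hgj : g j = 0
          · simp [hgj]
          · have := hmin j hgj
            have : i₀.val ≠ j.val := fun h => hj (Fin.ext h.symm)
            rw [hz _ (by omega), smul_zero]
        · exact fun h => absurd (Finset.mem_univ _) h
      have hKn : K < n := by
        have := hli.fintype_card_le_finrank
        rw [Fintype.card_fin, Module.finrank_fin_fun] at this
        omega
      refine ⟨⟨⟨K, hKn⟩, ⟨_, hli⟩, ⟨M, hM, fun i => ?_⟩⟩, ?_⟩
      · show M *ᵥ ((M ^ i.val) *ᵥ v) = _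
        rw [mulVec_mulVec, ← pow_succ']
        by_cases h : i.val + 1 < K + 1
        · rw [dif_pos h]
        · rw [dif_neg h, hz _ (by omega)]
      · exact Prod.ext rfl (Subtype.ext (by simp)))

/-- The summation identity. -/
theorem sum_identity (q n : ℕ) (hq : 0 < q) :
    ∀ d j, j + d = n → ∑ k ∈ Finset.Icc j n,
      (∏ i ∈ Finset.range k, (q ^ n - q ^ i)) * q ^ ((n - k) * (n - 1)) =
      (∏ i ∈ Finset.range j, (q ^ n - q ^ i)) * q ^ ((n - j) * n) := by
  intro d
  induction d with
  | zero =>
    intro j hj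
    obtain rfl : j = n := by omega
    simp
  | succ d ih =>
    intro j hj
    rw [← Finset.insert_Icc_add_one_left_eq_Icc (by omega : j ≤ n),
      Finset.sum_insert (by simp), ih (j + 1) (by omega), Finset.prod_range_succ,
      mul_assoc, ← mul_add]
    congr 1
    have e1 : n - j = d + 1 := by omega
    have e2 : n - (j + 1) = d := by omega
    obtain ⟨m, rfl⟩ : ∃ m, n = m + 1 := ⟨n - 1, by omega⟩
    rw [e1, e2, Nat.sub_mul, ← pow_add, ← pow_add, Nat.add_sub_cancel,
      show (d + 1) * (m + 1) = m + 1 + d * (m + 1) by ring]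
    have e3 : (d + 1) * m = j + d * (m + 1) := by
      obtain rfl : m = j + d := by omega
      ring
    rw [e3]
    exact Nat.add_sub_cancel' (Nat.pow_le_pow_right hq (by omega))

/-- **Fine–Herstein.** -/
theorem card_nilpotent (n : ℕ) :
    Nat.card {M : Matrix (Fin n) (Fin n) F // IsNilpotent M} =
      Fintype.card F ^ (n * (n - 1)) := by
  induction n using Nat.strong_induction_on with
  | _ n ih =>
    classical
    rcases Nat.eq_zero_or_pos n with rfl | hn
    · rw [zero_mul, pow_zero, Nat.card_eq_one_iff_unique]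
      exact ⟨inferInstance, ⟨⟨0, IsNilpotent.zero⟩⟩⟩
    set q := Fintype.card F with hq
    have hq1 : 1 < q := Fintype.one_lt_card
    have h := Nat.card_congr (pairEquiv (F := F) n)
    rw [Nat.card_prod, Nat.card_sigma] at h
    have hv : Nat.card {v : Fin n → F // v ≠ 0} = q ^ n - 1 := by
      rw [Nat.card_eq_fintype_card, Fintype.card_subtype_compl, Fintype.card_subtype_eq]
      simp [hq]
    have hsum : ∀ k : Fin n, Nat.card (Σ w : {w : Fin (k.val + 1) → Fin n → F //
        LinearIndependent F w}, {M : Matrix (Fin n) (Fin n) F // IsNilpotent M ∧ IsChain M w.1}) =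
        (∏ i ∈ Finset.range (k.val + 1), (q ^ n - q ^ i)) * q ^ ((n - (k.val + 1)) * (n - 1)) := by
      intro k
      have hle : k.val + 1 ≤ n := k.isLt
      rw [Nat.card_sigma, Finset.sum_congr rfl fun w _ => card_fibre hle w.1 w.2,
        ih (n - (k.val + 1)) (by omega), Finset.sum_const, Finset.card_univ, smul_eq_mul,
        ← Nat.card_eq_fintype_card, card_linearIndependent (by rwa [Module.finrank_fin_fun]),
        Module.finrank_fin_fun, ← pow_add]
      congr 1
      · exact Fin.prod_univ_eq_prod_range (fun i => q ^ n - q ^ i) _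
      · congr 1
        generalize k.val = j at hle ⊢
        obtain ⟨m, rfl⟩ : ∃ m, n = j + 1 + m := ⟨n - (j + 1), by omega⟩
        rw [Nat.add_sub_cancel_left]
        rcases m with _ | m
        · simp
        · rw [show j + 1 + (m + 1) - 1 = j + 1 + m by omega, Nat.add_sub_cancel]
          ring
    rw [hv, Finset.sum_congr rfl fun k _ => hsum k] at h
    have hid := sum_identity q n (by omega) n 0 (Nat.zero_add n)
    rw [show Finset.Icc 0 n = Finset.range (n + 1) by ext; simp, Finset.sum_range_succ'] at hid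
    simp only [Finset.range_zero, Finset.prod_empty, one_mul, Nat.sub_zero] at hid
    rw [Fin.sum_univ_eq_sum_range (fun k =>
      (∏ i ∈ Finset.range (k + 1), (q ^ n - q ^ i)) * q ^ ((n - (k + 1)) * (n - 1))) n] at h
    rw [h] at hid
    set ν := Nat.card {M : Matrix (Fin n) (Fin n) F // IsNilpotent M}
    have e : q ^ (n * n) = q ^ (n * (n - 1)) * q ^ n := by
      rw [← pow_add]
      congr 1
      obtain ⟨m, rfl⟩ : ∃ m, n = m + 1 := ⟨n - 1, by omega⟩
      rw [Nat.add_sub_cancel]; ring
    have hqn : 1 < q ^ n := Nat.one_lt_pow (by omega) hq1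
    rw [e] at hid
    obtain ⟨t, ht⟩ : ∃ t, q ^ n = t + 1 + 1 := ⟨q ^ n - 2, by omega⟩
    rw [ht, Nat.add_sub_cancel, Nat.mul_add _ (t + 1) 1, Nat.mul_one] at hid
    exact Nat.eq_of_mul_eq_mul_right (Nat.succ_pos t) (Nat.add_right_cancel hid)

end CfsgLib.NilCount
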